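import Mathlib.Algebra.Module.FinitePresentation
import Mathlib.LinearAlgebra.Quotient.Basic

/-! Subquotients. -/

set_option autoImplicit false
universe u

namespace FPDirLib

variable {R : Type u} [CommRing R] {V : Type u} [AddCommGroup V] [Module R V]

/-- The subquotient `F / (K ∩ F)`. -/
abbrev Q (F K : Submodule R V) : Type u := F ⧸ K.comap F.subtype

theorem finitePresentation_Q (F K : Submodule R V) [Module.Free R F] [Module.Finite R F] (hK : K.FG) (h : K ≤ F) :
    Module.FinitePresentation R (Q F K) := by
  haveI := Module.finitePresentation_of_projective R F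
  refine Module.finitePresentation_of_surjective (K.comap F.subtype).mkQ (Submodule.mkQ_surjective _) ?_
  rw [Submodule.ker_mkQ]
  refine Submodule.fg_of_fg_map_injective F.subtype F.injective_subtype ?_
  rw [Submodule.map_comap_eq, Submodule.range_subtype, inf_eq_right.2 h]
  exact hK

/-- Transition maps. -/
def trans {F F' K K' : Submodule R V} (hF : F ≤ F') (hK : K ≤ K') : Q F K →ₗ[R] Q F' K' :=
  Submodule.mapQ _ _ (Submodule.inclusion hF) (fun _ hx => hK hx)

theorem trans_mk {F F' K K' : Submodule R V} (hF : F ≤ F') (hK : K ≤ K') (x : F) :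
    trans hF hK (Submodule.Quotient.mk x) = Submodule.Quotient.mk (Submodule.inclusion hF x) := rfl

/-- The map to a module killing `K`. -/
def out {N : Type u} [AddCommGroup N] [Module R N] (π : V →ₗ[R] N) {F K : Submodule R V} (h : K ≤ LinearMap.ker π) :
    Q F K →ₗ[R] N :=
  Submodule.liftQ _ (π.comp F.subtype) (fun _ hx => h hx)

theorem out_mk {N : Type u} [AddCommGroup N] [Module R N] (π : V →ₗ[R] N) {F K : Submodule R V}
    (h : K ≤ LinearMap.ker π) (x : F) : out π h (Submodule.Quotient.mk x) = π x := rfl

end FPDirLib
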